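import Cfsg.Agent.H465.PiBSEnd

/-!
# S3876, task P6: `2` is the only prime of `π` dividing `|S|` (helper588)

`false_of_two` : under `Hyp π A x l` with `2 ∈ π` and `π ∩ π(S) ⊆ {2}` there is a contradiction.
* `l = 2` : `x` and its conjugates under `Inn(S)⟨x⟩` generate dihedral `2`-groups, Baer–Suzuki.
* `l` odd : `C_S(x)` has `2`-power index, so `x` normalises all Sylow `2`-subgroups.
-/

set_option autoImplicit false
set_option linter.unusedSectionVars false

namespace Cfsg.Agent.H588.PC

open Cfsg Subgroup Cfsg.Agent.H469.PiBS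
open scoped Pointwise

universe u v

/-- Two involutions whose product has `2`-power order generate a `2`-group. -/
theorem isPGroup_closure_pair {G : Type v} [Group G] {a b : G} (ha : a * a = 1) (hb : b * b = 1) {k : ℕ}
    (hab : (a * b) ^ 2 ^ k = 1) : IsPGroup 2 (closure ({a, b} : Set G)) := by
  have h1 : IsPGroup 2 (zpowers a) := by
    intro ⟨y, hy⟩
    obtain ⟨n, rfl⟩ := mem_zpowers_iff.1 hy
    refine ⟨1, Subtype.ext ?_⟩
    show (a ^ n) ^ 2 ^ 1 = 1
    rw [pow_one, ← zpow_natCast, ← zpow_mul, mul_comm, zpow_mul, zpow_natCast, pow_two, ha, one_zpow]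
  have h2 : IsPGroup 2 (zpowers (a * b)) := by
    intro ⟨y, hy⟩
    obtain ⟨n, rfl⟩ := mem_zpowers_iff.1 hy
    refine ⟨k, Subtype.ext ?_⟩
    show ((a * b) ^ n) ^ 2 ^ k = 1
    rw [← zpow_natCast, ← zpow_mul, mul_comm, zpow_mul, zpow_natCast, hab, one_zpow]
  have hai : a⁻¹ = a := inv_eq_of_mul_eq_one_right ha
  have hbi : b⁻¹ = b := inv_eq_of_mul_eq_one_right hb
  have h3 : zpowers a ≤ normalizer ((zpowers (a * b) : Subgroup G) : Set G) := by
    rw [zpowers_le]
    have hc : a * (a * b) * a⁻¹ = (a * b)⁻¹ := by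
      rw [mul_inv_rev, hbi, hai, ← mul_assoc, ha, one_mul]
    have hmem : ∀ y : G, y ∈ zpowers (a * b) → a * y * a⁻¹ ∈ zpowers (a * b) := by
      intro y hy
      obtain ⟨n, rfl⟩ := mem_zpowers_iff.1 hy
      refine mem_zpowers_iff.2 ⟨-n, ?_⟩
      rw [← conj_zpow, hc, inv_zpow, zpow_neg]
    rw [mem_normalizer_iff]
    intro y
    refine ⟨hmem y, fun hy => ?_⟩
    have h4 := hmem _ hy
    rw [hai] at h4
    have h5 : a * (a * y * a) * a = y := by
      calc a * (a * y * a) * a = (a * a) * y * (a * a) := by group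
        _ = y := by rw [ha, one_mul, mul_one]
    rwa [h5] at h4
  have h4 := IsPGroup.to_sup_of_normal_right' h1 h2 h3
  refine h4.to_le ?_
  rw [closure_le]
  rintro y (rfl | hy)
  · exact (le_sup_left : zpowers y ≤ _) (mem_zpowers y)
  · rw [Set.mem_singleton_iff] at hy
    subst hy
    have h5 : a ∈ zpowers a ⊔ zpowers (a * y) := (le_sup_left : zpowers a ≤ _) (mem_zpowers a)
    have h6 : a * y ∈ zpowers a ⊔ zpowers (a * y) := (le_sup_right : zpowers (a * y) ≤ _) (mem_zpowers _)
    have h8 := mul_mem (inv_mem h5) h6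
    rwa [inv_mul_cancel_left] at h8

theorem exists_mul_of_coprime_index {G : Type v} [Group G] [Finite G] {H K : Subgroup G}
    (h : Nat.Coprime H.index K.index) (g : G) : ∃ x ∈ H, ∃ y ∈ K, g = x * y := by
  classical
  have h1 : (H ⊓ K).relIndex K * K.index = (H ⊓ K).index := relIndex_mul_index inf_le_right
  have h2 : (H ⊓ K).relIndex H * H.index = (H ⊓ K).index := relIndex_mul_index inf_le_left
  rw [inf_relIndex_right] at h1
  have h3 : H.index ∣ H.relIndex K := by
    apply h.dvd_of_dvd_mul_right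
    rw [h1, ← h2]
    exact dvd_mul_left _ _
  have hst : MulAction.stabilizer K (QuotientGroup.mk 1 : G ⧸ H) = H.subgroupOf K := by
    ext y
    rw [MulAction.mem_stabilizer_iff, mem_subgroupOf]
    have : y • (QuotientGroup.mk 1 : G ⧸ H) = QuotientGroup.mk ((y : G) * 1) := rfl
    rw [this, mul_one, QuotientGroup.eq, mul_one, inv_mem_iff]
  have h4 := MulAction.index_stabilizer K (QuotientGroup.mk 1 : G ⧸ H)
  rw [hst] at h4
  have h5 : (MulAction.orbit K (QuotientGroup.mk 1 : G ⧸ H)) = Set.univ := by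
    apply Set.eq_of_subset_of_ncard_le (Set.subset_univ _)
    rw [Set.ncard_univ, ← h4]
    have h6 : H.relIndex K ≠ 0 := by
      rw [relIndex]; exact index_ne_zero_of_finite
    exact Nat.le_of_dvd (Nat.pos_of_ne_zero h6) h3
  have h6 : (QuotientGroup.mk g⁻¹ : G ⧸ H) ∈ MulAction.orbit K (QuotientGroup.mk 1 : G ⧸ H) := by
    rw [h5]; exact Set.mem_univ _
  obtain ⟨y, hy⟩ := h6
  have h7 : (QuotientGroup.mk ((y : G) * 1) : G ⧸ H) = QuotientGroup.mk g⁻¹ := hy
  rw [mul_one, QuotientGroup.eq] at h7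
  refine ⟨((y : G)⁻¹ * g⁻¹)⁻¹, inv_mem h7, (y : G)⁻¹, inv_mem y.2, ?_⟩
  group

theorem center_eq_bot {S : Type u} [Group S] [IsSimpleGroup S] (hna : ¬ IsMulCommutative S) : center S = ⊥ := by
  rcases (IsSimpleGroup.eq_bot_or_eq_top_of_normal (center S) inferInstance) with h1 | h1
  · exact h1
  · exfalso
    refine hna ⟨⟨fun a b => ?_⟩⟩
    have : b ∈ center S := by rw [h1]; trivial
    exact (mem_center_iff.1 this) a

theorem isPiHall_sylow {S : Type u} [Group S] [Finite S] (P : Sylow 2 S) : IsPiHall ({2} : Set ℕ) (P : Subgroup S) := by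
  have : Fact (Nat.Prime 2) := ⟨Nat.prime_two⟩
  constructor
  · intro p hp hd
    obtain ⟨n, hn⟩ := IsPGroup.iff_card.1 P.2
    rw [hn] at hd
    exact (Nat.prime_dvd_prime_iff_eq hp Nat.prime_two).1 (hp.dvd_of_dvd_pow hd)
  · intro p hp hpi hd
    rw [Set.mem_singleton_iff] at hpi
    subst hpi
    exact P.not_dvd_index hd

/-- A Hall `{2}`-subgroup is a Sylow `2`-subgroup. -/
theorem exists_sylow_of_isPiHall {S : Type u} [Group S] [Finite S] {H : Subgroup S}
    (h : IsPiHall ({2} : Set ℕ) H) : ∃ P : Sylow 2 S, (P : Subgroup S) = H := by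
  have : Fact (Nat.Prime 2) := ⟨Nat.prime_two⟩
  have h1 : IsPGroup 2 H := by
    rw [IsPGroup.iff_card]
    exact ⟨_, Nat.eq_prime_pow_of_unique_prime_dvd Nat.card_pos.ne' fun {d} hd hdK => h.1 d hd hdK⟩
  exact ⟨h1.toSylow (h.2 2 Nat.prime_two rfl), IsPGroup.toSylow_coe _ _⟩

section

variable {π : Set ℕ} {S : Type u} [Group S] [Finite S] [IsSimpleGroup S]
  {A : Subgroup (MulAut S)} {x : MulAut S} {l : ℕ}

/-- The number of Sylow `2`-subgroups is odd, in terms of Hall `{2}`-subgroups. -/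
theorem not_two_dvd_hall : ¬ 2 ∣ Nat.card {H : Subgroup S // IsPiHall ({2} : Set ℕ) H} := by
  have : Fact (Nat.Prime 2) := ⟨Nat.prime_two⟩
  have h1 : Nat.card {H : Subgroup S // IsPiHall ({2} : Set ℕ) H} = Nat.card (Sylow 2 S) := by
    refine Nat.card_congr (Equiv.ofBijective
      (fun P : Sylow 2 S => (⟨(P : Subgroup S), isPiHall_sylow P⟩ : {H : Subgroup S // IsPiHall ({2} : Set ℕ) H}))
      ⟨?_, ?_⟩).symm
    · intro P Q hPQ
      exact Sylow.ext (congrArg Subtype.val hPQ)
    · rintro ⟨H, hH⟩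
      obtain ⟨P, hP⟩ := exists_sylow_of_isPiHall hH
      exact ⟨P, Subtype.ext hP⟩
  rw [h1]
  exact not_dvd_card_sylow 2 S

/-- the case `l = 2` -/
theorem false_of_two_two (hna : ¬ IsMulCommutative S) (h : Hyp π A x 2)
    (hu : ∀ p : ℕ, p.Prime → p ∈ π → p ∣ Nat.card S → p = 2) : False := by
  have hf : Fact (Nat.Prime 2) := ⟨Nat.prime_two⟩
  have hZ : center S = ⊥ := center_eq_bot hna
  have hx2 : x * x = 1 := by
    have := pow_orderOf_eq_one x
    rwa [h.ord, pow_two] at this
  have hxi : x⁻¹ = x := inv_eq_of_mul_eq_one_right hx2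
  -- `A' = Inn(S) ∪ Inn(S) x`
  let A' : Subgroup (MulAut S) := (MulAut.conj : S →* MulAut S).range ⊔ zpowers x
  have hinn : ∀ s : S, MulAut.conj s ∈ A' := fun s =>
    (le_sup_left : (MulAut.conj : S →* MulAut S).range ≤ A') ⟨s, rfl⟩
  have hxA : x ∈ A' := (le_sup_right : zpowers x ≤ A') (mem_zpowers x)
  have hxconj : ∀ s : S, x * MulAut.conj s * x⁻¹ = MulAut.conj (x s) := by
    intro s
    ext t
    simp only [MulAut.conj_apply, MulAut.mul_apply, map_mul, map_inv, MulAut.apply_inv_self]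
  -- the `A'`-conjugates of `x` are the `S`-conjugates
  have hA' : ∀ a ∈ A', ∃ s : S, a * x * a⁻¹ = MulAut.conj s * x * (MulAut.conj s)⁻¹ := by
    intro a ha
    have h1 : A' = closure (((MulAut.conj : S →* MulAut S).range : Set (MulAut S)) ∪ {x}) := by
      rw [Subgroup.closure_union, Subgroup.closure_eq, ← Subgroup.zpowers_eq_closure]
    rw [h1] at ha
    induction ha using closure_induction_left with
    | one => exact ⟨1, by rw [map_one]⟩
    | mul_left y hy z _ hz =>
      obtain ⟨s, hs⟩ := hz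
      have e1 : y * z * x * (y * z)⁻¹ = y * (z * x * z⁻¹) * y⁻¹ := by group
      rcases hy with ⟨t, rfl⟩ | hy
      · refine ⟨t * s, ?_⟩
        rw [e1, hs, map_mul]
        group
      · rw [Set.mem_singleton_iff] at hy
        subst hy
        refine ⟨y s, ?_⟩
        rw [e1, hs, ← hxconj]
        group
    | inv_mul_cancel y hy z _ hz =>
      obtain ⟨s, hs⟩ := hz
      have e1 : y⁻¹ * z * x * (y⁻¹ * z)⁻¹ = y⁻¹ * (z * x * z⁻¹) * y := by group
      rcases hy with ⟨t, rfl⟩ | hy
      · refine ⟨t⁻¹ * s, ?_⟩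
        rw [e1, hs, map_mul, map_inv]
        group
      · rw [Set.mem_singleton_iff] at hy
        subst hy
        refine ⟨y s, ?_⟩
        rw [e1, hs, ← hxconj, hxi]
        calc y * (MulAut.conj s * y * (MulAut.conj s)⁻¹) * y
            = y * MulAut.conj s * y * (MulAut.conj s)⁻¹ * y := by group
          _ = y * MulAut.conj s * y * y * (y * MulAut.conj s * y)⁻¹ := by
            rw [mul_inv_rev, mul_inv_rev, hxi]
            calc y * MulAut.conj s * y * (MulAut.conj s)⁻¹ * y
                = y * MulAut.conj s * y * 1 * (MulAut.conj s)⁻¹ * y := by group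
              _ = y * MulAut.conj s * y * (y * y) * (MulAut.conj s)⁻¹ * y := by rw [hx2]
              _ = _ := by group
  -- the order of `x(s) s⁻¹` is a power of two
  have hord : ∀ s : S, ∃ k : ℕ, (x s * s⁻¹) ^ 2 ^ k = 1 := by
    intro s
    have h1 := Nat.eq_prime_pow_of_unique_prime_dvd (n := orderOf (x s * s⁻¹)) (p := 2) (orderOf_pos _).ne'
      (fun {d} hd hdd => hu d hd (h.pi_orderOf hZ s hd hdd) (hdd.trans (_root_.orderOf_dvd_natCard _)))
    exact ⟨_, by rw [← h1]; exact pow_orderOf_eq_one _⟩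
  have hpair : ∀ s t : S, IsPGroup 2 (closure ({MulAut.conj s * x * (MulAut.conj s)⁻¹,
      MulAut.conj t * x * (MulAut.conj t)⁻¹} : Set (MulAut S))) := by
    intro s t
    obtain ⟨k, hk⟩ := hord (s⁻¹ * t)
    refine isPGroup_closure_pair (k := k) ?_ ?_ ?_
    · calc MulAut.conj s * x * (MulAut.conj s)⁻¹ * (MulAut.conj s * x * (MulAut.conj s)⁻¹)
          = MulAut.conj s * (x * x) * (MulAut.conj s)⁻¹ := by group
        _ = 1 := by rw [hx2]; group
    · calc MulAut.conj t * x * (MulAut.conj t)⁻¹ * (MulAut.conj t * x * (MulAut.conj t)⁻¹)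
          = MulAut.conj t * (x * x) * (MulAut.conj t)⁻¹ := by group
        _ = 1 := by rw [hx2]; group
    · have e1 : MulAut.conj s * x * (MulAut.conj s)⁻¹ * (MulAut.conj t * x * (MulAut.conj t)⁻¹) =
          MulAut.conj s * MulAut.conj (x (s⁻¹ * t) * (s⁻¹ * t)⁻¹) * (MulAut.conj s)⁻¹ := by
        rw [map_mul MulAut.conj (x (s⁻¹ * t)), ← hxconj, map_inv MulAut.conj (s⁻¹ * t), map_mul MulAut.conj s⁻¹ t,
          map_inv MulAut.conj s, hxi]
        group
      rw [e1, conj_pow, ← map_pow, hk, map_one, mul_one, mul_inv_cancel]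
  have hyp : Hyp ({2} : Set ℕ) A' x 2 :=
    { inn := hinn
      dom := by
        intro K hK
        have h1 : IsPGroup 2 K := by
          rw [IsPGroup.iff_card]
          exact ⟨_, Nat.eq_prime_pow_of_unique_prime_dvd Nat.card_pos.ne' fun {d} hd hdK => hK d hd hdK⟩
        obtain ⟨P, hP⟩ := h1.exists_le_sylow
        exact ⟨P, isPiHall_sylow P, hP⟩
      trans := by
        intro H H' hH hH'
        obtain ⟨P, rfl⟩ := exists_sylow_of_isPiHall hH
        obtain ⟨Q, rfl⟩ := exists_sylow_of_isPiHall hH'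
        obtain ⟨g, hg⟩ := MulAction.exists_smul_eq S P Q
        refine ⟨MulAut.conj g, hinn g, ?_⟩
        rw [← hg]
        rfl
      cnt := by
        intro r _ hri hd
        rw [Set.mem_singleton_iff] at hri
        subst hri
        exact not_two_dvd_hall hd
      mem := hxA
      prime := Nat.prime_two
      lpi := rfl
      ord := h.ord
      pairs := by
        intro a ha b hb p hp hd
        obtain ⟨s, hs⟩ := hA' a ha
        obtain ⟨t, ht⟩ := hA' b hb
        rw [hs, ht] at hd
        obtain ⟨n, hn⟩ := IsPGroup.iff_card.1 (hpair s t)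
        rw [hn] at hd
        exact (Nat.prime_dvd_prime_iff_eq hp Nat.prime_two).1 (hp.dvd_of_dvd_pow hd) }
  exact hyp.false_of_unique hna fun p _ hp _ => hp

/-- an element of prime order `l` not dividing `|S|` normalises a Sylow `t`-subgroup -/
theorem exists_inv_sylow {l : ℕ} (hl : l.Prime) (hx : orderOf x = l) (hlS : ¬ l ∣ Nat.card S) {t : ℕ}
    (ht : t.Prime) : ∃ P : Sylow t S, (P : Subgroup S).map x.toMonoidHom = P := by
  have hf : Fact t.Prime := ⟨ht⟩
  have hf' : Fact l.Prime := ⟨hl⟩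
  have h1 : IsPGroup l (zpowers x) := by
    refine IsPGroup.of_card (n := 1) ?_
    rw [Nat.card_zpowers, hx, pow_one]
  have h2 : ¬ l ∣ Nat.card (Sylow t S) := by
    intro hd
    obtain ⟨P⟩ : Nonempty (Sylow t S) := inferInstance
    exact hlS (hd.trans ((Sylow.card_dvd_index P).trans (index_dvd_card _)))
  obtain ⟨P, hP⟩ := h1.nonempty_fixed_point_of_prime_not_dvd_card (Sylow t S) h2
  refine ⟨P, ?_⟩
  have h3 := hP ⟨x, mem_zpowers x⟩
  have h4 := congrArg (fun Q : Sylow t S => (Q : Subgroup S)) h3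
  exact h4

/-- the case `l` odd -/
theorem false_of_two_odd (hna : ¬ IsMulCommutative S) (h : Hyp π A x l) (hl2 : l ≠ 2)
    (hu : ∀ p : ℕ, p.Prime → p ∈ π → p ∣ Nat.card S → p = 2) : False := by
  classical
  have hZ : center S = ⊥ := center_eq_bot hna
  have hf2 : Fact (Nat.Prime 2) := ⟨Nat.prime_two⟩
  have hlS : ¬ l ∣ Nat.card S := fun hd => hl2 (hu l h.prime h.lpi hd)
  -- the fixed points
  let C : Subgroup S :=
    { carrier := {s | x s = s}
      mul_mem' := by
        intro a b ha hb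
        show x (a * b) = a * b
        rw [map_mul, show x a = a from ha, show x b = b from hb]
      one_mem' := map_one x
      inv_mem' := by
        intro a ha
        show x a⁻¹ = a⁻¹
        rw [map_inv, show x a = a from ha] }
  have hC : ∀ s : S, s ∈ C ↔ x s = s := fun s => Iff.rfl
  -- its index is prime to all odd primes
  have hidx : ∀ t : ℕ, t.Prime → t ≠ 2 → ¬ t ∣ C.index := by
    intro t ht ht2 hd
    have hf : Fact t.Prime := ⟨ht⟩
    obtain ⟨P, hP⟩ := exists_inv_sylow (S := S) h.prime h.ord hlS ht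
    have htS : t ∣ Nat.card S := hd.trans (index_dvd_card _)
    have htp : t ∉ π := fun hp => ht2 (hu t ht hp htS)
    have hPC : (P : Subgroup S) ≤ C := by
      intro v hv
      refine h.fix_of_invariant hZ ht htp P.2 (fun w hw => ?_) hv
      rw [← hP]
      exact ⟨w, hw, rfl⟩
    have h1 : C.index ∣ (P : Subgroup S).index := index_dvd_of_le hPC
    exact P.not_dvd_index (hd.trans h1)
  -- a Sylow `2`-subgroup
  obtain ⟨P, hP⟩ := exists_inv_sylow (S := S) h.prime h.ord hlS Nat.prime_two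
  set N : Subgroup S := normalizer ((P : Subgroup S) : Set S) with hN
  have hNi : ¬ 2 ∣ N.index := by
    intro hd
    exact P.not_dvd_index (hd.trans (index_dvd_of_le (le_normalizer (H := (P : Subgroup S)))))
  have hcop : Nat.Coprime C.index N.index := by
    rw [Nat.coprime_iff_gcd_eq_one]
    by_contra hne
    obtain ⟨t, ht, htd⟩ := Nat.exists_prime_and_dvd hne
    have h1 := htd.trans (Nat.gcd_dvd_left _ _)
    have h2 := htd.trans (Nat.gcd_dvd_right _ _)
    by_cases ht2 : t = 2
    · rw [ht2] at h2; exact hNi h2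
    · exact hidx t ht ht2 h1
  -- `S = C N`
  have hCN : ∀ g : S, ∃ c ∈ C, ∃ n ∈ N, g = c * n := exists_mul_of_coprime_index hcop
  have hPx : ∀ y : S, y ∈ (P : Subgroup S) → x y ∈ (P : Subgroup S) := by
    intro y hy
    rw [← hP]
    exact ⟨y, hy, rfl⟩
  have hPx' : ∀ y : S, y ∈ (P : Subgroup S) ↔ x y ∈ (P : Subgroup S) := by
    intro y
    refine ⟨hPx y, fun hy => ?_⟩
    rw [← hP] at hy
    obtain ⟨z, hz, hzy⟩ := hy
    rwa [← x.injective hzy]
  have hNx : ∀ y : S, y ∈ N → x y ∈ N := by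
    intro y hy
    rw [hN, mem_normalizer_iff] at hy ⊢
    intro v
    have h1 : v = x (x.symm v) := (x.apply_symm_apply v).symm
    have h2 := hy (x.symm v)
    rw [h1, ← hPx', h2, hPx' (y * x.symm v * y⁻¹), map_mul, map_mul, map_inv]
  -- `g⁻¹ x(g) ∈ N` for all `g`
  have hg : ∀ g : S, g⁻¹ * x g ∈ N := by
    intro g
    obtain ⟨c, hc, n, hn, rfl⟩ := hCN g
    rw [map_mul, (hC c).1 hc]
    have e : (c * n)⁻¹ * (c * x n) = n⁻¹ * x n := by group
    rw [e]
    exact mul_mem (inv_mem hn) (hNx n hn)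
  have hcore : ∀ g : S, g⁻¹ * x g ∈ N.normalCore := by
    intro g h'
    have h1 := hg (g * h'⁻¹)
    have h2 := hg h'⁻¹
    have e : h' * (g⁻¹ * x g) * h'⁻¹ = ((g * h'⁻¹)⁻¹ * x (g * h'⁻¹)) * ((h'⁻¹)⁻¹ * x h'⁻¹)⁻¹ := by
      rw [map_mul]
      group
    rw [e]
    exact mul_mem h1 (inv_mem h2)
  rcases (IsSimpleGroup.eq_bot_or_eq_top_of_normal N.normalCore inferInstance) with h1 | h1
  · refine h.ne_one (MulEquiv.ext fun s => ?_)
    have h2 := hcore s
    rw [h1, mem_bot] at h2
    rw [MulAut.one_apply]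
    exact (inv_mul_eq_one.1 h2).symm
  · have h2 : N = ⊤ := by
      rw [eq_top_iff, ← h1]
      exact N.normalCore_le
    have h3 : (P : Subgroup S).Normal := normalizer_eq_top_iff.1 h2
    rcases (IsSimpleGroup.eq_bot_or_eq_top_of_normal (P : Subgroup S) h3) with h4 | h4
    · -- odd order
      have h5 : ¬ 2 ∣ Nat.card S := by
        intro hd
        have h6 := P.not_dvd_index
        rw [h4, index_bot] at h6
        exact h6 hd
      have h6 : C.index = 1 := by
        by_contra hne
        obtain ⟨t, ht, htd⟩ := Nat.exists_prime_and_dvd hne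
        by_cases ht2 : t = 2
        · rw [ht2] at htd
          exact h5 (htd.trans (index_dvd_card _))
        · exact hidx t ht ht2 htd
      refine h.ne_one (MulEquiv.ext fun s => ?_)
      have h7 : s ∈ C := by rw [index_eq_one.1 h6]; trivial
      exact (hC s).1 h7
    · have h5 : IsPGroup 2 S := by
        have := P.2
        rw [h4] at this
        exact this.of_equiv topEquiv
      have h6 : Nontrivial (center S) := h5.center_nontrivial
      rw [hZ] at h6
      exact not_nontrivial _ h6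

/-- **P6.** -/
theorem false_of_two (hna : ¬ IsMulCommutative S) (h : Hyp π A x l) (_h2 : 2 ∈ π)
    (hu : ∀ p : ℕ, p.Prime → p ∈ π → p ∣ Nat.card S → p = 2) : False := by
  by_cases hl : l = 2
  · subst hl
    exact false_of_two_two hna h hu
  · exact false_of_two_odd hna h hl hu

end

end Cfsg.Agent.H588.PC
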